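import Mathlib
import Groth.Agent.Lib.Helper13.CodimOne
import Groth.Agent.Lib.Helper17.SmoothNormal

/-!
# S11107: rational maps from a smooth scheme over a Dedekind domain to a proper scheme are defined
in codimension one
-/

set_option autoImplicit false
universe u

open AlgebraicGeometry CategoryTheory Limits TopologicalSpace

namespace Groth.Agent.Lib.Helper24.Neron

theorem valuationRing_of_dim_le_one (O : Type*) [CommRing O] [IsDomain O] [IsLocalRing O]
    [IsNoetherianRing O] [IsIntegrallyClosed O] (hdim : ringKrullDim O ≤ 1) : ValuationRing O := by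
  have h := (tfae_of_isNoetherianRing_of_isLocalRing_of_isDomain O).out 3 1
  haveI : Ring.KrullDimLE 1 O := by
    rw [Ring.krullDimLE_iff]
    exact hdim
  exact h.1 ⟨inferInstance, fun P hP hP' => IsLocalRing.eq_maximalIdeal
    (Ring.krullDimLE_one_iff_of_noZeroDivisors.mp inferInstance P hP hP')⟩

/-- stalks of a scheme smooth over a normal domain are normal domains -/
theorem stalk_normal_of_smooth (R : Type u) [CommRing R] [IsDomain R] [IsIntegrallyClosed R]
    {Y : Scheme.{u}} (pY : Y ⟶ Spec (CommRingCat.of R)) [Smooth pY] (y : Y) :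
    IsDomain (Y.presheaf.stalk y) ∧ IsIntegrallyClosed (Y.presheaf.stalk y) := by
  obtain ⟨_, ⟨V, hV : IsAffineOpen V, rfl⟩, hyV, -⟩ :=
    Y.isBasis_affineOpens.exists_subset_of_mem_open (Set.mem_univ y) isOpen_univ
  have hsm : (pY.appLE ⊤ V le_top).hom.Smooth :=
    HasRingHomProperty.appLE (P := @Smooth) pY inferInstance ⟨⊤, isAffineOpen_top _⟩ ⟨V, hV⟩ le_top
  haveI hD : IsDomain Γ(Spec (CommRingCat.of R), ⊤) :=
    MulEquiv.isDomain _
      (Scheme.ΓSpecIso (CommRingCat.of R)).commRingCatIsoToRingEquiv.toMulEquiv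
  haveI hI : IsIntegrallyClosed Γ(Spec (CommRingCat.of R), ⊤) :=
    IsIntegrallyClosed.of_equiv
      (Scheme.ΓSpecIso (CommRingCat.of R)).commRingCatIsoToRingEquiv.symm
  algebraize [(pY.appLE ⊤ V le_top).hom]
  have hsm' : Algebra.Smooth Γ(Spec (CommRingCat.of R), ⊤) Γ(Y, V) := hsm
  have hnorm := Groth.Agent.Lib.Helper17.SmoothNormal.isDomain_and_isIntegrallyClosed_atPrime_of_smooth
    Γ(Spec (CommRingCat.of R), ⊤) (B := Γ(Y, V)) (hV.primeIdealOf ⟨y, hyV⟩).asIdeal
  letI := Y.presheaf.algebra_section_stalk ⟨y, hyV⟩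
  have hloc := hV.isLocalization_stalk ⟨y, hyV⟩
  let e := IsLocalization.algEquiv (hV.primeIdealOf ⟨y, hyV⟩).asIdeal.primeCompl
      (Localization.AtPrime (hV.primeIdealOf ⟨y, hyV⟩).asIdeal) (Y.presheaf.stalk y)
  haveI := hnorm.1
  haveI := hnorm.2
  exact ⟨MulEquiv.isDomain _ e.toRingEquiv.symm.toMulEquiv, IsIntegrallyClosed.of_equiv e.toRingEquiv⟩

theorem main11107 {R : Type u} [CommRing R] [IsDedekindDomain R]
    {X Y : Scheme.{u}} (pX : X ⟶ Spec (CommRingCat.of R)) (pY : Y ⟶ Spec (CommRingCat.of R))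
    [Smooth pX] [IsProper pY] (U : X.Opens) (hU : Dense (U : Set X))
    (f : (U : Scheme.{u}) ⟶ Y) (hf : f ≫ pY = U.ι ≫ pX) :
    ∃ (V : X.Opens) (hUV : U ≤ V) (g : (V : Scheme.{u}) ⟶ Y),
      g ≫ pY = V.ι ≫ pX ∧ X.homOfLE hUV ≫ g = f ∧
      ∀ x : X, x ∉ V → (2 : WithBot ℕ∞) ≤ ringKrullDim (X.presheaf.stalk x) := by
  haveI : IsLocallyNoetherian X := LocallyOfFiniteType.isLocallyNoetherian pX
  have hnorm := fun x : X => stalk_normal_of_smooth R pX x
  haveI : IsReduced X := by
    haveI : ∀ x : X, _root_.IsReduced (X.presheaf.stalk x) := fun x => by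
      haveI := (hnorm x).1
      infer_instance
    exact isReduced_of_isReduced_stalk X
  have hcl : IsClosedMap (pullback.fst pX pY).base := (pullback.fst pX pY).isClosedMap
  obtain ⟨V, hUV, s', hs'1, hs'2, hS⟩ := Groth.Agent.Lib.Helper13.CodimOne.exists_extension
    (pullback.fst pX pY) hcl U hU (pullback.lift U.ι f hf.symm) (pullback.lift_fst _ _ _)
    {x : X | ¬ (2 : WithBot ℕ∞) ≤ ringKrullDim (X.presheaf.stalk x)} (by
      intro x hx
      haveI := (hnorm x).1
      haveI := (hnorm x).2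
      refine ⟨inferInstance, valuationRing_of_dim_le_one _ ?_⟩
      have hx' : ringKrullDim (X.presheaf.stalk x) < 2 := not_le.1 hx
      have h0 : (0 : WithBot ℕ∞) ≤ ringKrullDim (X.presheaf.stalk x) := ringKrullDim_nonneg_of_nontrivial
      obtain ⟨n, hn⟩ : ∃ n : ℕ∞, ringKrullDim (X.presheaf.stalk x) = n := by
        cases h : ringKrullDim (X.presheaf.stalk x) with
        | bot => rw [h] at h0; exact absurd h0 (by simp)
        | coe n => exact ⟨n, rfl⟩
      rw [hn] at hx' ⊢
      have h2 : n < 2 := by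
        have : ((n : ℕ∞) : WithBot ℕ∞) < ((2 : ℕ∞) : WithBot ℕ∞) := hx'
        exact WithBot.coe_lt_coe.1 this
      have h3 : n ≤ 1 := by
        rw [show (2 : ℕ∞) = 1 + 1 from (one_add_one_eq_two).symm] at h2
        exact (ENat.lt_add_one_iff (by simp)).1 h2
      exact WithBot.coe_le_coe.2 h3)
  refine ⟨V, hUV, s' ≫ pullback.snd pX pY, ?_, ?_, ?_⟩
  · rw [Category.assoc, ← pullback.condition, ← Category.assoc, hs'1]
  · rw [← Category.assoc, hs'2, pullback.lift_snd]
  · intro x hx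
    by_contra h
    exact hx (hS x h)

end Groth.Agent.Lib.Helper24.Neron
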